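import Groth.Agent.Lib.Bertini13.Proj
import Groth.Agent.Lib.TopDimLib.Basic

/-!
# Closed subsets of projective space avoiding a coordinate hyperplane
-/

set_option autoImplicit false
set_option backward.isDefEq.respectTransparency false
set_option backward.isDefEq.respectTransparency.types false

universe u

open CategoryTheory AlgebraicGeometry

noncomputable section

namespace Groth.Agent.CoordSec13

attribute [local instance] MvPolynomial.gradedAlgebra

variable {k : Type u} [Field k] {n : ℕ}

/-- A closed subset of projective space inside a standard chart is discrete. -/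
theorem topologicalKrullDim_le_zero (Z : Set (CohB1.ProjSpace n k)) (hZ : IsClosed Z) (j : Fin (n + 1))
    (h : Z ⊆ (Bertini13.V k n j : Set (CohB1.ProjSpace n k))) : topologicalKrullDim Z ≤ 0 := by
  let T := (Scheme.IdealSheafData.vanishingIdeal (⟨Z, hZ⟩ : TopologicalSpace.Closeds (CohB1.ProjSpace n k)))
  let i := T.subschemeι
  have hr : Set.range i = Z := by
    rw [Scheme.IdealSheafData.range_subschemeι, Scheme.IdealSheafData.coe_support_vanishingIdeal]
    rfl
  haveI : IsAffine T.subscheme := by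
    have hA := (Bertini13.isAffineOpen_V (k := k) j).preimage i
    have htop : i ⁻¹ᵁ Bertini13.V k n j = ⊤ :=
      top_le_iff.1 fun y _ => h (hr.le ⟨y, rfl⟩)
    rw [htop] at hA
    haveI : IsAffine (⊤ : T.subscheme.Opens).toScheme := hA
    exact IsAffine.of_isIso (Scheme.topIso T.subscheme).inv
  haveI : IsProper (CohB1.ProjSpace.toSpec n k) := ProjSpace.isProper_toSpec n k
  let g := i ≫ CohB1.ProjSpace.toSpec n k
  haveI : IsProper g := inferInstance
  haveI : IsAffineHom g := inferInstance
  have hf : IsFinite g := IsFinite.iff_isProper_and_isAffineHom.2 ⟨inferInstance, inferInstance⟩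
  haveI : DiscreteTopology T.subscheme := by
    have hfin := (HasAffineProperty.iff_of_isAffine (P := @IsFinite)).1 hf
    haveI : IsArtinianRing Γ(Spec (CommRingCat.of k), ⊤) :=
      (Scheme.ΓSpecIso (CommRingCat.of k)).commRingCatIsoToRingEquiv.symm.isArtinianRing
    letI := g.appTop.hom.toAlgebra
    haveI : Module.Finite Γ(Spec (CommRingCat.of k), ⊤) Γ(T.subscheme, ⊤) := hfin.2
    haveI : IsArtinianRing Γ(T.subscheme, ⊤) := IsArtinianRing.of_finite Γ(Spec (CommRingCat.of k), ⊤) _
    haveI : DiscreteTopology (Spec Γ(T.subscheme, ⊤)) := inferInstanceAs (DiscreteTopology (PrimeSpectrum _))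
    exact T.subscheme.isoSpec.hom.homeomorph.symm.discreteTopology
  have e : IsHomeomorph (Set.rangeFactorization i) := by
    rw [isHomeomorph_iff_isEmbedding_surjective]
    exact ⟨i.isEmbedding.codRestrict _ _, Set.rangeFactorization_surjective⟩
  have := e.topologicalKrullDim_eq
  rw [← hr, ← this]
  exact topologicalKrullDim_zero_of_discreteTopology _

theorem eq_of_mem (x y : CohB1.ProjSpace n k)
    (hx : ∀ j : Fin (n + 1), j ≠ 0 → (MvPolynomial.X j : MvPolynomial (Fin (n + 1)) k) ∈ x.asHomogeneousIdeal)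
    (hy : ∀ j : Fin (n + 1), j ≠ 0 → (MvPolynomial.X j : MvPolynomial (Fin (n + 1)) k) ∈ y.asHomogeneousIdeal) :
    x = y := by
  have key : ∀ z : CohB1.ProjSpace n k,
      (∀ j : Fin (n + 1), j ≠ 0 → (MvPolynomial.X j : MvPolynomial (Fin (n + 1)) k) ∈ z.asHomogeneousIdeal) →
      ∀ (d : ℕ) (f : MvPolynomial (Fin (n + 1)) k), f ∈ CohB1.polyGrading n k d →
        (f ∈ z.asHomogeneousIdeal ↔ f.coeff (Finsupp.single 0 d) = 0) := by
    intro z hz d f hf
    have hz0 : (MvPolynomial.X 0 : MvPolynomial (Fin (n + 1)) k) ∉ z.asHomogeneousIdeal := fun h0 => by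
      refine z.not_irrelevant_le ?_
      change (HomogeneousIdeal.irrelevant (CohB1.polyGrading n k)).toIdeal ≤ z.asHomogeneousIdeal.toIdeal
      refine (ProjSpace.irrelevant_le_span n k).trans (Ideal.span_le.2 ?_)
      rintro _ ⟨j, rfl⟩
      rcases eq_or_ne j 0 with rfl | hj
      · exact h0
      · exact hz j hj
    have hdec : f - MvPolynomial.C (f.coeff (Finsupp.single 0 d)) * MvPolynomial.X 0 ^ d ∈
        z.asHomogeneousIdeal.toIdeal := by
      classical
      have hmem : ∀ j ∈ (Set.univ \ {0} : Set (Fin (n + 1))), MvPolynomial.X j ∈ z.asHomogeneousIdeal.toIdeal :=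
        fun j hj => hz j hj.2
      refine (Ideal.span_le.2 ?_) (MvPolynomial.mem_ideal_span_X_image.2 ?_ :
        f - MvPolynomial.C (f.coeff (Finsupp.single 0 d)) * MvPolynomial.X 0 ^ d ∈
          Ideal.span (MvPolynomial.X '' (Set.univ \ {0} : Set (Fin (n + 1)))))
      · rintro _ ⟨j, hj, rfl⟩
        exact hmem j hj
      · intro m hm
        by_contra hall
        push Not at hall
        rw [MvPolynomial.mem_support_iff, MvPolynomial.coeff_sub, MvPolynomial.coeff_C_mul,
          MvPolynomial.coeff_X_pow] at hm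
        have hm1 : m = Finsupp.single 0 (m 0) := by
          ext j
          rcases eq_or_ne j 0 with rfl | hj
          · simp
          · rw [Finsupp.single_eq_of_ne hj]
            exact hall j ⟨trivial, hj⟩
        by_cases hmd : m 0 = d
        · rw [hmd] at hm1
          exact hm (by rw [hm1]; simp)
        · refine hm ?_
          have h1 : f.coeff m = 0 := MvPolynomial.IsHomogeneous.coeff_eq_zero hf (by
            rw [hm1, Finsupp.degree_single]; exact hmd)
          rw [h1, if_neg (fun e => hmd (by rw [← e]; simp)), mul_zero, sub_zero]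
    constructor
    · intro hfz
      by_contra hc
      have h1 : MvPolynomial.C (f.coeff (Finsupp.single 0 d)) * MvPolynomial.X 0 ^ d ∈ z.asHomogeneousIdeal.toIdeal := by
        simpa using Ideal.sub_mem _ hfz hdec
      rcases z.isPrime.mem_or_mem h1 with h2 | h2
      · exact z.isPrime.ne_top (Ideal.eq_top_of_isUnit_mem _ h2 ((IsUnit.mk0 _ hc).map MvPolynomial.C))
      · exact hz0 (z.isPrime.mem_of_pow_mem _ h2)
    · intro hc
      rw [hc, map_zero, zero_mul, sub_zero] at hdec
      exact hdec
  refine ProjectiveSpectrum.ext (HomogeneousIdeal.toIdeal_injective ?_)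
  ext f
  rw [x.asHomogeneousIdeal.isHomogeneous.mem_iff, y.asHomogeneousIdeal.isHomogeneous.mem_iff]
  exact forall_congr' fun d => (key x hx d _ (SetLike.coe_mem _)).trans (key y hy d _ (SetLike.coe_mem _)).symm

/-- Cutting by coordinate hyperplanes reaches dimension zero without becoming empty. -/
theorem exists_dim_zero (C : Set (CohB1.ProjSpace n k)) (hC : IsClosed C) (hne : C.Nonempty) :
    ∃ i : ℕ, i ≤ n ∧
      (C ∩ {x | ∀ j : Fin (n + 1), 1 ≤ j.val → j.val ≤ i → MvPolynomial.X j ∈ x.asHomogeneousIdeal}).Nonempty ∧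
      topologicalKrullDim ↥(C ∩ {x | ∀ j : Fin (n + 1), 1 ≤ j.val → j.val ≤ i →
        MvPolynomial.X j ∈ x.asHomogeneousIdeal}) = 0 := by
  classical
  let Z : ℕ → Set (CohB1.ProjSpace n k) := fun i =>
    C ∩ {x | ∀ j : Fin (n + 1), 1 ≤ j.val → j.val ≤ i → MvPolynomial.X j ∈ x.asHomogeneousIdeal}
  have hclosed : ∀ i, IsClosed (Z i) := fun i => by
    refine hC.inter ?_
    have : {x : CohB1.ProjSpace n k | ∀ j : Fin (n + 1), 1 ≤ j.val → j.val ≤ i →
        MvPolynomial.X j ∈ x.asHomogeneousIdeal} = ProjectiveSpectrum.zeroLocus (CohB1.polyGrading n k)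
        ((fun j : Fin (n + 1) => (MvPolynomial.X j : MvPolynomial (Fin (n + 1)) k)) ''
          {j : Fin (n + 1) | 1 ≤ j.val ∧ j.val ≤ i}) := by
      ext x
      rw [Set.mem_setOf_eq, ProjectiveSpectrum.mem_zeroLocus]
      constructor
      · rintro h _ ⟨j, hj, rfl⟩
        exact h j hj.1 hj.2
      · exact fun h j h1 h2 => h ⟨j, ⟨h1, h2⟩, rfl⟩
    rw [this]
    exact ProjectiveSpectrum.isClosed_zeroLocus _ _
  suffices h : ∀ m i, i + m = n → (Z i).Nonempty →
      ∃ i, i ≤ n ∧ (Z i).Nonempty ∧ topologicalKrullDim ↥(Z i) = 0 by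
    refine h n 0 (zero_add n) (hne.mono fun x hx => ⟨hx, fun j h1 h2 => absurd h2 (by omega)⟩)
  intro m
  induction m with
  | zero =>
    intro i hi hZ
    obtain rfl : i = n := by omega
    refine ⟨i, le_rfl, hZ, ?_⟩
    haveI : Subsingleton ↥(Z i) := ⟨fun a b => Subtype.ext (eq_of_mem a.1 b.1
      (fun j hj => a.2.2 j (Nat.one_le_iff_ne_zero.2 fun e => hj (Fin.ext e)) (Nat.lt_succ_iff.1 j.2))
      (fun j hj => b.2.2 j (Nat.one_le_iff_ne_zero.2 fun e => hj (Fin.ext e)) (Nat.lt_succ_iff.1 j.2)))⟩
    haveI : Nonempty ↥(Z i) := hZ.to_subtype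
    exact le_antisymm (topologicalKrullDim_zero_of_discreteTopology _) (Order.krullDim_nonneg_iff.2
      ⟨⟨_, (isIrreducible_singleton (x := Classical.arbitrary ↥(Z i))).closure, isClosed_closure⟩⟩)
  | succ m ih =>
    intro i hi hZ
    by_cases hnext : (Z (i + 1)).Nonempty
    · exact ih (i + 1) (by omega) hnext
    refine ⟨i, by omega, hZ, ?_⟩
    haveI : Nonempty ↥(Z i) := hZ.to_subtype
    refine le_antisymm ?_ (Order.krullDim_nonneg_iff.2
      ⟨⟨_, (isIrreducible_singleton (x := Classical.arbitrary ↥(Z i))).closure, isClosed_closure⟩⟩)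
    refine topologicalKrullDim_le_zero (Z i) (hclosed i) ⟨i + 1, by omega⟩ fun x hx hmem => ?_
    refine hnext ⟨x, hx.1, fun j h1 h2 => ?_⟩
    rcases Nat.lt_or_eq_of_le h2 with h | h
    · exact hx.2 j h1 (Nat.lt_succ_iff.1 h)
    · have : j = ⟨i + 1, by omega⟩ := Fin.ext h
      rw [this]
      exact hmem

end Groth.Agent.CoordSec13
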